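import Groth.Agent.RegBlow6.Algebra
import Groth.Agent.RegBlow6.Geometry
import Groth.Agent.BlowUpLib.Local
import Groth.Agent.RegLoc6.Basic
import Groth.Agent.CAlgOdd.H1Regular
import Mathlib.RingTheory.PrincipalIdealDomain

/-! The closed fibre of the blow-up of a regular local surface at its closed point. -/

set_option autoImplicit false
set_option linter.style.haveILetI false
set_option backward.isDefEq.respectTransparency false
set_option backward.isDefEq.respectTransparency.types false

universe u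

open CategoryTheory CategoryTheory.Limits AlgebraicGeometry TopologicalSpace IsLocalRing

namespace Groth.Agent.Contraction7

open BlowUpLib RegBlow6

/-- The chart rings modulo the exceptional ideal: one prime ideal, all larger primes maximal. -/
theorem exc_chart {A : Type u} [CommRing A] (a : Fin 2 → A) (k l : Fin 2) (hlk : l ≠ k)
    (hq : CAlgX.IsQuasiRegular a) (hmax : (cI a).IsMaximal) :
    (exc a k).IsPrime ∧ coord a k ⟨l, hlk⟩ ∉ exc a k ∧
      ∀ P : Ideal (chartAlg a k), P.IsPrime → exc a k ≤ P → P ≠ exc a k → P.IsMaximal := by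
  classical
  let ψ : MvPolynomial {j // j ≠ k} (A ⧸ cI a) →+* chartAlg a k ⧸ exc a k :=
    MvPolynomial.eval₂Hom (excHom a k) fun j => Ideal.Quotient.mk _ (coord a k j)
  have hmk : ψ.comp (MvPolynomial.map (Ideal.Quotient.mk (cI a))) =
      (Ideal.Quotient.mk (exc a k)).comp (pres a k).toRingHom := by
    refine MvPolynomial.ringHom_ext (fun r => ?_) fun j => ?_
    · simp [ψ, pres]
    · simp [ψ, pres]
  have hbij : Function.Bijective ψ := by
    refine ⟨(injective_iff_map_eq_zero _).2 fun g hg => ?_, fun z => ?_⟩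
    · obtain ⟨f, rfl⟩ := MvPolynomial.map_surjective _ Ideal.Quotient.mk_surjective g
      have h1 : Ideal.Quotient.mk (exc a k) (pres a k f) = 0 := (RingHom.congr_fun hmk f).symm.trans hg
      rw [Ideal.Quotient.eq_zero_iff_mem, exc_eq, Ideal.mem_span_singleton'] at h1
      obtain ⟨q, hqe⟩ := h1
      obtain ⟨g', rfl⟩ := pres_surjective a k q
      have h2 : pres a k (f - g' * MvPolynomial.C (a k)) = 0 := by
        rw [map_sub, map_mul, ← hqe, pres, MvPolynomial.aeval_C, sub_self]
      ext e
      rw [MvPolynomial.coeff_map, MvPolynomial.coeff_zero, Ideal.Quotient.eq_zero_iff_mem]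
      have h3 := coeff_mem_of_pres_eq_zero hq h2 e
      rw [MvPolynomial.coeff_sub, mul_comm g', MvPolynomial.coeff_C_mul] at h3
      simpa using add_mem h3 (Ideal.mul_mem_right (g'.coeff e) _ (mem_cI a k))
    · obtain ⟨z, rfl⟩ := Ideal.Quotient.mk_surjective z
      obtain ⟨f, rfl⟩ := pres_surjective a k z
      exact ⟨MvPolynomial.map _ f, RingHom.congr_fun hmk f⟩
  haveI := hmax
  letI : Field (A ⧸ cI a) := Ideal.Quotient.field _
  let e := RingEquiv.ofBijective ψ hbij
  haveI : IsDomain (chartAlg a k ⧸ exc a k) := e.symm.toMulEquiv.isDomain _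
  letI : Unique {j // j ≠ k} :=
    { default := ⟨l, hlk⟩
      uniq := fun j => Subtype.ext (by
        obtain ⟨j, hj⟩ := j
        show j = l
        omega) }
  let e2 : Polynomial (A ⧸ cI a) ≃+* chartAlg a k ⧸ exc a k :=
    (MvPolynomial.uniqueAlgEquiv (A ⧸ cI a) {j // j ≠ k}).toRingEquiv.symm.trans e
  haveI : IsPrincipalIdealRing (chartAlg a k ⧸ exc a k) :=
    IsPrincipalIdealRing.of_surjective e2.toRingHom e2.surjective
  refine ⟨(Ideal.Quotient.isDomain_iff_prime _).1 inferInstance, fun hmem => ?_, fun P hP hle hne => ?_⟩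
  · have h1 : ψ (MvPolynomial.X ⟨l, hlk⟩) = ψ 0 := by
      rw [map_zero, MvPolynomial.eval₂Hom_X']
      exact Ideal.Quotient.eq_zero_iff_mem.2 hmem
    exact MvPolynomial.X_ne_zero _ (hbij.1 h1)
  · haveI := hP
    let π := Ideal.Quotient.mk (exc a k)
    haveI : (P.map π).IsPrime := Ideal.map_isPrime_of_surjective Ideal.Quotient.mk_surjective (by rwa [Ideal.mk_ker])
    have hcm : (P.map π).comap π = P := by
      rw [Ideal.comap_map_of_surjective _ Ideal.Quotient.mk_surjective, ← RingHom.ker_eq_comap_bot, Ideal.mk_ker,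
        sup_of_le_left hle]
    have hne0 : P.map π ≠ ⊥ := fun h => hne (by rw [← hcm, h, ← RingHom.ker_eq_comap_bot, Ideal.mk_ker])
    haveI : (P.map π).IsMaximal := IsPrime.to_maximal_ideal (S := P.map π) hne0
    rw [← hcm]
    exact Ideal.comap_isMaximal_of_surjective _ Ideal.Quotient.mk_surjective

/-- The closed fibre has a point of which all other points are closed specializations. -/
theorem exists_fibre_generic' {A : Type u} [CommRing A] [IsRegularLocalRing A] (hA : ringKrullDim A = 2) :
    ∃ η : localBlowUp (maximalIdeal A), toBase (maximalIdeal A) η = closedPoint A ∧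
      ∀ z, toBase (maximalIdeal A) z = closedPoint A →
      η ⤳ z ∧ (z = η ∨ ∀ w, toBase (maximalIdeal A) w = closedPoint A → z ⤳ w → z = w) := by
  classical
  haveI : IsDomain A := RegLoc6.isDomain_of_isRegularLocalRing A
  have h2 : (maximalIdeal A).spanFinrank = 2 := by
    have h := IsRegularLocalRing.spanFinrank_maximalIdeal (R := A)
    rw [hA] at h
    exact_mod_cast h
  obtain ⟨G, hG, hspan⟩ := Submodule.FG.exists_span_finset_card_eq_spanFinrank (IsNoetherian.noetherian (maximalIdeal A))
  rw [h2, Finset.card_eq_two] at hG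
  obtain ⟨x, y, -, rfl⟩ := hG
  simp only [Finset.coe_insert, Finset.coe_singleton] at hspan
  let a : Fin 2 → A := ![x, y]
  have hI : cI a = maximalIdeal A := by
    show Ideal.span (Set.range ![x, y]) = _
    rw [Matrix.range_cons_cons_empty]
    exact hspan
  have hxm : x ∈ maximalIdeal A := by rw [← hI]; exact mem_cI a 0
  have hym : y ∈ maximalIdeal A := by rw [← hI]; exact mem_cI a 1
  have hlow : ∀ z ∈ maximalIdeal A, ¬ maximalIdeal A ≤ Ideal.span {z} ⊔ maximalIdeal A ^ 2 := fun z hzu hz => by
    have hzm : ¬ maximalIdeal A ≤ Ideal.span {z} := fun hle => by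
      have heq : Submodule.span A {z} = maximalIdeal A :=
        le_antisymm ((Submodule.span_singleton_le_iff_mem _ _).2 hzu) hle
      have h := Submodule.spanFinrank_span_le_ncard_of_finite (R := A) (M := A) (Set.finite_singleton z)
      rw [heq, h2, Set.ncard_singleton] at h
      omega
    refine hzm (Submodule.le_of_le_smul_of_le_jacobson_bot (IsNoetherian.noetherian _)
      (IsLocalRing.maximalIdeal_le_jacobson ⊥) ?_)
    rw [smul_eq_mul, ← sq]
    exact hz
  have hx2 : x ∉ maximalIdeal A ^ 2 := fun h => hlow y hym (by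
    have h0 : maximalIdeal A = Ideal.span {x, y} := hspan.symm
    rw [h0, Ideal.span_le]
    rintro w (rfl | rfl)
    · rw [← h0]; exact Submodule.mem_sup_right h
    · exact Submodule.mem_sup_left (Ideal.mem_span_singleton_self _))
  have hxy : y ∉ Ideal.span {x} := fun h => hlow x hxm (by
    have h0 : maximalIdeal A = Ideal.span {x, y} := hspan.symm
    refine le_trans ?_ le_sup_left
    rw [h0, Ideal.span_le]
    rintro w (rfl | rfl)
    · exact Ideal.mem_span_singleton_self _
    · exact h)
  haveI := (RegLoc6.isRegularLocalRing_quot_and hxm hx2).1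
  haveI : IsDomain (A ⧸ Ideal.span {x}) := RegLoc6.isDomain_of_isRegularLocalRing _
  haveI hxp : (Ideal.span {x}).IsPrime := (Ideal.Quotient.isDomain_iff_prime _).1 inferInstance
  have hx0 : x ≠ 0 := fun h => hx2 (h ▸ zero_mem _)
  have hH1 : CAlgX.IsH1Regular a := by
    intro r hr
    rw [Fin.sum_univ_two] at hr
    change r 0 * x + r 1 * y = 0 at hr
    have h1 : r 1 * y ∈ Ideal.span {x} := by
      rw [show r 1 * y = -(r 0) * x by linear_combination hr]
      exact Ideal.mul_mem_left _ _ (Ideal.mem_span_singleton_self x)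
    obtain ⟨w, hw⟩ := Ideal.mem_span_singleton'.1 ((hxp.mem_or_mem h1).resolve_right hxy)
    have h0 : r 0 = -(w * y) := by
      refine mul_right_cancel₀ hx0 ?_
      rw [← hw] at hr
      linear_combination hr
    have hr' : r = w • (Pi.single (1 : Fin 2) (a 0) - Pi.single (0 : Fin 2) (a 1)) := by
      funext i
      fin_cases i <;> simp [a, h0, ← hw]
    rw [hr']
    exact Submodule.smul_mem _ _ (Submodule.subset_span ⟨1, 0, rfl⟩)
  have hq := CAlgOdd.H1Regular.isQuasiRegular a hH1
  have hmax : (cI a).IsMaximal := hI ▸ IsLocalRing.maximalIdeal.isMaximal A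
  rw [← hI]
  have hπ : ∀ (k : Fin 2) (P : PrimeSpectrum (chartAlg a k)),
      toBase (cI a) (chart (cI a) ⟨a k, mem_cI a k⟩ P) = closedPoint A ↔ exc a k ≤ P.asIdeal := by
    intro k P
    rw [← Scheme.Hom.comp_apply, chart_toBase]
    show PrimeSpectrum.comap (algebraMap A (chartAlg a k)) P = closedPoint A ↔ _
    rw [exc, Ideal.map_le_iff_le_comap, PrimeSpectrum.ext_iff]
    show P.asIdeal.comap _ = maximalIdeal A ↔ _
    rw [← hI]
    exact ⟨fun h => h.ge, fun h => (hmax.eq_of_le (Ideal.IsPrime.ne_top inferInstance) h).symm⟩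
  let η : Fin 2 → localBlowUp (cI a) := fun k =>
    chart (cI a) ⟨a k, mem_cI a k⟩ ⟨exc a k, (exc_chart a k (1 - k) (by omega) hq hmax).1⟩
  have hF : ∀ k (z : localBlowUp (cI a)), toBase (cI a) z = closedPoint A →
      z ∈ (chart (cI a) ⟨a k, mem_cI a k⟩).opensRange →
      η k ⤳ z ∧ (z = η k ∨ ∀ w, toBase (cI a) w = closedPoint A →
        w ∈ (chart (cI a) ⟨a k, mem_cI a k⟩).opensRange → z ⤳ w → z = w) := by
    rintro k z hz ⟨P, rfl⟩
    have hP := (hπ k P).1 hz
    refine ⟨((PrimeSpectrum.le_iff_specializes _ P).1 hP).map (Scheme.Hom.continuous _), ?_⟩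
    by_cases hPe : P.asIdeal = exc a k
    · exact Or.inl (congrArg _ (PrimeSpectrum.ext hPe))
    refine Or.inr ?_
    rintro w hw ⟨Q, rfl⟩ hzw
    have h1 : P ⤳ Q := (Scheme.Hom.isOpenEmbedding _).isInducing.specializes_iff.1 hzw
    have hle : P.asIdeal ≤ Q.asIdeal := (PrimeSpectrum.le_iff_specializes P Q).2 h1
    have hm := (exc_chart a k (1 - k) (by omega) hq hmax).2.2 P.asIdeal inferInstance hP hPe
    exact congrArg _ (PrimeSpectrum.ext (hm.eq_of_le (Ideal.IsPrime.ne_top inferInstance) hle))
  have hπη : ∀ k, toBase (cI a) (η k) = closedPoint A := fun k => (hπ k _).2 le_rfl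
  have hηmem : ∀ k, η k ∈ (chart (cI a) ⟨a (1 - k), mem_cI a _⟩).opensRange := by
    intro k
    refine chart_overlap (cI a) ⟨a (1 - k), mem_cI a _⟩ ⟨a k, mem_cI a k⟩ ?_
    exact (exc_chart a k (1 - k) (by omega) hq hmax).2.1
  have hη01 : η 0 = η 1 := by
    have h01 : η 1 ⤳ η 0 := (hF 1 (η 0) (hπη 0) (hηmem 0)).1
    have h10 : η 0 ⤳ η 1 := (hF 0 (η 1) (hπη 1) (hηmem 1)).1
    exact (h10.antisymm h01).eq
  refine ⟨η 0, hπη 0, fun z hz => ?_⟩
  obtain ⟨k, hk⟩ := chart_covers_gens a z
  have hηk : η k = η 0 := by fin_cases k <;> simp [hη01]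
  refine ⟨hηk ▸ (hF k z hz hk).1, ?_⟩
  rcases (hF k z hz hk).2 with h | h
  · exact Or.inl (h.trans hηk)
  by_cases hall : ∀ w, toBase (cI a) w = closedPoint A → z ⤳ w → z = w
  · exact Or.inr hall
  push_neg at hall
  obtain ⟨w, hw, hzw, hne⟩ := hall
  obtain ⟨k', hk'⟩ := chart_covers_gens a w
  have hzk' : z ∈ (chart (cI a) ⟨a k', mem_cI a k'⟩).opensRange := hzw.mem_open (Opens.isOpen _) hk'
  rcases (hF k' z hz hzk').2 with h' | h'
  · have hηk' : η k' = η 0 := by fin_cases k' <;> simp [hη01]
    exact Or.inl (h'.trans hηk')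
  · exact absurd (h' w hw hk' hzw) hne

/-- The closed fibre has a point of which all other points are closed specializations. -/
theorem exists_fibre_generic {A : Type u} [CommRing A] [IsRegularLocalRing A] (hA : ringKrullDim A = 2) :
    ∃ η : localBlowUp (maximalIdeal A), ∀ z, toBase (maximalIdeal A) z = closedPoint A →
      η ⤳ z ∧ (z = η ∨ ∀ w, toBase (maximalIdeal A) w = closedPoint A → z ⤳ w → z = w) :=
  (exists_fibre_generic' hA).imp fun _ h => h.2

end Groth.Agent.Contraction7
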