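import Groth.Agent.Contraction7.Fibre
import Groth.Agent.BlowUpLib.Glue
import Groth.Agent.Lib.BlowUpInt
import Groth.Agent.Lib.NormalPush
import Groth.Agent.H23.FinCondSch
import Groth.Agent.H23.RatExtend
import Groth.Agent.H23.Rigid
import Groth.Agent.RegLoc6.Normal
import Groth.Agent.S8851
import Groth.Agent.QCoh.Support
import Groth.Prelude.Def_ModelsG

/-! The universal property of the contraction of an exceptional curve. -/

set_option autoImplicit false
set_option linter.style.haveILetI false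
set_option backward.isDefEq.respectTransparency false
set_option backward.isDefEq.respectTransparency.types false

universe u

open CategoryTheory CategoryTheory.Limits AlgebraicGeometry TopologicalSpace IsLocalRing

namespace Groth.Agent.Contraction7

open BlowUpLib

/-- The projective line has two points, one specializing to the other. -/
theorem exists_specializes_projLine (k : Type u) [Field k] :
    ∃ p q : CohB1.ProjSpace 1 k, p ≠ q ∧ p ⤳ q := by
  let 𝒜 := CohB1.polyGrading 1 k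
  have hX : ∀ i : Fin 2, (MvPolynomial.X i : MvPolynomial (Fin 2) k) ∈ 𝒜 1 := fun i =>
    MvPolynomial.isHomogeneous_X k i
  have h0 : ¬ (HomogeneousIdeal.irrelevant 𝒜).toIdeal ≤ (⊥ : HomogeneousIdeal 𝒜).toIdeal := fun h => by
    have h1 := h (HomogeneousIdeal.mem_irrelevant_of_mem 𝒜 Nat.one_pos (hX 0))
    rw [HomogeneousIdeal.toIdeal_bot, Ideal.mem_bot] at h1
    exact MvPolynomial.X_ne_zero 0 h1
  let J : HomogeneousIdeal 𝒜 := ⟨Ideal.span {(MvPolynomial.X 1 : MvPolynomial (Fin 2) k)},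
    Ideal.homogeneous_span 𝒜 _ (by rintro x rfl; exact ⟨1, hX 1⟩)⟩
  have hJ0 : J.toIdeal = Ideal.span {(MvPolynomial.X 1 : MvPolynomial (Fin 2) k)} := rfl
  have hJp : J.toIdeal.IsPrime := by
    rw [hJ0, Ideal.span_singleton_prime (MvPolynomial.X_ne_zero 1)]
    exact MvPolynomial.X_prime
  have hJ : ¬ (HomogeneousIdeal.irrelevant 𝒜).toIdeal ≤ J.toIdeal := fun h => by
    obtain ⟨c, hc⟩ := Ideal.mem_span_singleton'.1 (h (HomogeneousIdeal.mem_irrelevant_of_mem 𝒜 Nat.one_pos (hX 0)))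
    have := congrArg (MvPolynomial.eval ![(1 : k), 0]) hc
    simp at this
  let p : ProjectiveSpectrum 𝒜 := ⟨⊥, by rw [HomogeneousIdeal.toIdeal_bot]; exact Ideal.isPrime_bot, h0⟩
  let q : ProjectiveSpectrum 𝒜 := ⟨J, hJp, hJ⟩
  refine ⟨p, q, fun h => ?_, ?_⟩
  · have h1 : (MvPolynomial.X 1 : MvPolynomial (Fin 2) k) ∈ (⊥ : HomogeneousIdeal 𝒜).toIdeal := by
      rw [show (⊥ : HomogeneousIdeal 𝒜) = J from congrArg ProjectiveSpectrum.asHomogeneousIdeal h]
      exact Ideal.subset_span rfl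
    rw [HomogeneousIdeal.toIdeal_bot, Ideal.mem_bot] at h1
    exact MvPolynomial.X_ne_zero 1 h1
  · have hle : p ≤ q := show (⊥ : HomogeneousIdeal 𝒜) ≤ J from bot_le
    exact specializes_iff_mem_closure.2 ((ProjectiveSpectrum.le_iff_mem_closure 𝒜 p q).1 hle)

variable {X X' : Scheme.{u}} (b : X ⟶ X') {y : X'} (hy : IsClosed ({y} : Set X'))

/-- The ideal of a closed point in its local scheme. -/
theorem comap_fromSpecStalk :
    (Scheme.IdealSheafData.vanishingIdeal ⟨{y}, hy⟩).comap (X'.fromSpecStalk y) =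
      centre (maximalIdeal (X'.presheaf.stalk y)) := by
  obtain ⟨_, ⟨V, hV, rfl⟩, hyV, -⟩ := X'.isBasis_affineOpens.exists_subset_of_mem_open (Set.mem_univ y) isOpen_univ
  have hle : (⊤ : (Spec (X'.presheaf.stalk y)).Opens) ≤ X'.fromSpecStalk y ⁻¹ᵁ V := fun t _ => by
    have ht : X'.fromSpecStalk y t ⤳ y := by
      have h : X'.fromSpecStalk y t ∈ Set.range (X'.fromSpecStalk y) := ⟨t, rfl⟩
      rwa [Scheme.range_fromSpecStalk] at h
    exact ht.mem_open V.2 hyV
  refine Scheme.IdealSheafData.ext_of_isAffine ?_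
  rw [centre_top, ModPairLib.ideal_comap _ _ ⟨V, hV⟩ ⟨⊤, isAffineOpen_top _⟩ hle,
    Scheme.IdealSheafData.vanishingIdeal_ideal]
  have hpre : hV.fromSpec ⁻¹' ({y} : Set X') = {hV.primeIdealOf ⟨y, hyV⟩} := by
    ext t
    constructor
    · intro ht
      exact hV.fromSpec.isOpenEmbedding.injective (ht.trans (hV.fromSpec_primeIdealOf ⟨y, hyV⟩).symm)
    · rintro rfl
      exact hV.fromSpec_primeIdealOf ⟨y, hyV⟩
  erw [hpre, PrimeSpectrum.vanishingIdeal_singleton]
  letI := TopCat.Presheaf.algebra_section_stalk X'.presheaf (⟨y, hyV⟩ : V)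
  haveI := hV.isLocalization_stalk ⟨y, hyV⟩
  have happ : (X'.fromSpecStalk y).appLE V ⊤ hle =
      X'.presheaf.germ V y hyV ≫ (Scheme.ΓSpecIso (X'.presheaf.stalk y)).inv := by
    rw [Scheme.Hom.appLE, Scheme.fromSpecStalk_app hyV, Category.assoc, Category.assoc, ← Functor.map_comp]
    congr 1
  rw [happ, CommRingCat.hom_comp, ← Ideal.map_map]
  congr 1
  exact IsLocalization.AtPrime.map_eq_maximalIdeal _ (X'.presheaf.stalk y)

variable [IsLocallyNoetherian X'] [IsProper b] (hb : BlowUp.IsBlowUp b (Scheme.IdealSheafData.vanishingIdeal ⟨{y}, hy⟩))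

include hb in
theorem isIso_restrict_of_notMem {V : X'.Opens} (hV : y ∉ V) : IsIso (b ∣_ V) := by
  refine BlowUpLib.isIso_restrict hb V fun x hx hmem => ?_
  rw [Scheme.IdealSheafData.coe_support_vanishingIdeal] at hmem
  exact hV (Set.mem_singleton_iff.1 hmem ▸ hx)

include hb in
/-- The fibre over the centre lies in the curve. -/
theorem fibre_subset [IsRegularLocalRing (X'.presheaf.stalk y)] (hdim : ringKrullDim (X'.presheaf.stalk y) = 2)
    {R : Set X} (hR : IsClosed R) {x₀ x₁ : X} (hne : x₀ ≠ x₁) (hsp : x₀ ⤳ x₁) (h₀ : x₀ ∈ R)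
    (hb₀ : b x₀ = y) (hb₁ : b x₁ = y) : b ⁻¹' {y} ⊆ R := by
  let j := X'.fromSpecStalk y
  haveI : Flat j := H23.RatExtend.flat_fromSpecStalk X' y
  let b' := pullback.snd b j
  have hB : BlowUp.IsBlowUp b' (centre (maximalIdeal (X'.presheaf.stalk y))) := by
    have h := isBlowUp_of_isPullback (IsPullback.of_hasPullback b j).flip hb
    rwa [comap_fromSpecStalk hy] at h
  obtain ⟨e, he⟩ := exists_iso hB (isBlowUp_local (maximalIdeal (X'.presheaf.stalk y)))
  obtain ⟨η, hη⟩ := exists_fibre_generic hdim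
  have hlift : ∀ x, b x = y → ∃ z, (e.inv ≫ pullback.fst b j) z = x ∧
      toBase (maximalIdeal (X'.presheaf.stalk y)) z = closedPoint (X'.presheaf.stalk y) := by
    intro x hx
    obtain ⟨z, hz₁, hz₂⟩ := Scheme.Pullback.exists_preimage_pullback (f := b) (g := j) x
      (closedPoint (X'.presheaf.stalk y)) (hx.trans (Scheme.fromSpecStalk_closedPoint).symm)
    refine ⟨e.hom z, ?_, ?_⟩
    · rw [← Scheme.Hom.comp_apply, Iso.hom_inv_id_assoc]; exact hz₁
    · rw [← Scheme.Hom.comp_apply, he]; exact hz₂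
  haveI : IsPreimmersion (e.inv ≫ pullback.fst b j) := inferInstance
  have hemb := (e.inv ≫ pullback.fst b j).isEmbedding
  obtain ⟨z₀, rfl, hz₀⟩ := hlift x₀ hb₀
  obtain ⟨z₁, rfl, hz₁⟩ := hlift x₁ hb₁
  have hz₀η : z₀ = η := (hη z₀ hz₀).2.resolve_right fun h =>
    hne (congrArg _ (h z₁ hz₁ (hemb.isInducing.specializes_iff.1 hsp)))
  intro x hx
  obtain ⟨z, rfl, hz⟩ := hlift x hx
  have hsp' : (e.inv ≫ pullback.fst b j) η ⤳ (e.inv ≫ pullback.fst b j) z :=
    ((hη z hz).1).map (Scheme.Hom.continuous _)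
  exact hsp'.mem_closed hR (hz₀η ▸ h₀)

include hb in
/-- Functions on the blow-up come from the base. -/
theorem bijective_app [IsRegularLocalRing (X'.presheaf.stalk y)] (hyr : y ∈ Set.range b) (W : X'.Opens) :
    Function.Bijective (b.app W) := by
  suffices h : IsIso (b.app W) from ConcreteCategory.bijective_of_isIso _
  refine FlatMisc.isIso_app_of_bijective_affine b (fun z => ?_) W
  by_cases hzy : z = y
  swap
  · obtain ⟨V, hV, hzV, hVU⟩ := exists_isAffineOpen_mem_and_subset (X := X') (x := z)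
      (U := ⟨({y} : Set X')ᶜ, hy.isOpen_compl⟩) hzy
    haveI := isIso_restrict_of_notMem b hy hb (V := V) fun h => hVU h rfl
    refine ⟨V, hV, hzV, ?_⟩
    have h1 : IsIso (b ∣_ V).appTop := inferInstance
    have h2 : IsIso ((b ∣_ V).app ⊤) := h1
    rw [morphismRestrict_app] at h2
    haveI : IsIso (b.app (V.ι ''ᵁ ⊤)) := IsIso.of_isIso_comp_right (b.app (V.ι ''ᵁ ⊤))
      (X.presheaf.map (eqToHom (image_morphismRestrict_preimage b V ⊤)).op)
    have key : ∀ O : X'.Opens, O = V → Function.Bijective (b.app O) → Function.Bijective (b.app V) := by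
      rintro O rfl h; exact h
    exact key _ V.ι_image_top (ConcreteCategory.bijective_of_isIso _)
  subst hzy
  haveI : IsDomain (X'.presheaf.stalk z) := RegLoc6.isDomain_of_isRegularLocalRing _
  haveI : IsIntegrallyClosed (X'.presheaf.stalk z) := RegLoc6.isIntegrallyClosed_of_isRegularLocalRing _
  obtain ⟨U, hzU, hUint⟩ := H23.FinCondSch.exists_integral_nhd z
  obtain ⟨V, hV, hzV, hVU⟩ := exists_isAffineOpen_mem_and_subset (X := X') (x := z) (U := U) hzU
  refine ⟨V, hV, hzV, ?_⟩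
  haveI := hUint
  haveI : Nonempty (V : Scheme.{u}) := ⟨⟨z, hzV⟩⟩
  haveI : IsIntegral (V : Scheme.{u}) := isIntegral_of_isOpenImmersion (X'.homOfLE hVU)
  haveI : IsAffine (V : Scheme.{u}) := hV
  let f := b ∣_ V
  have hf : BlowUp.IsBlowUp f ((Scheme.IdealSheafData.vanishingIdeal ⟨{z}, hy⟩).comap V.ι) :=
    isBlowUp_of_isPullback (isPullback_morphismRestrict b V) hb
  suffices hbij : Function.Bijective f.appTop by
    have h2 : Function.Bijective (f.app ⊤) := hbij
    rw [morphismRestrict_app] at h2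
    have h3 : Function.Bijective (b.app (V.ι ''ᵁ ⊤)) :=
      (Function.Bijective.of_comp_iff' (ConcreteCategory.bijective_of_isIso
        (X.presheaf.map (eqToHom (image_morphismRestrict_preimage b V ⊤)).op)) _).1 h2
    have key : ∀ O : X'.Opens, O = V → Function.Bijective (b.app O) → Function.Bijective (b.app V) := by
      rintro O rfl h; exact h
    exact key _ V.ι_image_top h3
  obtain ⟨w, hw⟩ := hyr
  haveI : Nonempty (b ⁻¹ᵁ V : X.Opens).toScheme := ⟨⟨w, show b w ∈ V from hw.symm ▸ hzV⟩⟩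
  obtain hemp | ⟨hint, hgen, hst⟩ := Lib.BlowUpInt.isEmpty_or_birational hf
  · exact hemp.elim (Classical.arbitrary _)
  haveI := hint
  haveI := hst
  haveI : IsDominant f := ⟨fun t => closure_mono
    ((Set.singleton_subset_iff.2 ⟨genericPoint (b ⁻¹ᵁ V).toScheme, hgen⟩ : ({genericPoint (V : Scheme.{u})} : Set _) ⊆ Set.range f))
    (genericPoint_specializes t).mem_closure⟩
  refine ⟨PnCoh.Chow.app_injective_of_isDominant f ⊤, fun s => ?_⟩
  have hdom : f (genericPoint (b ⁻¹ᵁ V).toScheme) ⤳ genericPoint (V : Scheme.{u}) := specializes_of_eq hgen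
  haveI : Nonempty (⊤ : (V : Scheme.{u}).Opens) := ⟨⟨⟨z, hzV⟩, trivial⟩⟩
  haveI : Nonempty (⊤ : (b ⁻¹ᵁ V).toScheme.Opens) := ⟨⟨Classical.arbitrary _, trivial⟩⟩
  let φ := CohIII.stalkToFunctionField f (genericPoint (V : Scheme.{u})) hdom
  have hφs : Function.Surjective φ := by
    show Function.Surjective ((f.stalkMap (genericPoint _)).hom ∘ ((V : Scheme.{u}).presheaf.stalkSpecializes hdom).hom)
    refine (ConcreteCategory.bijective_of_isIso (f.stalkMap (genericPoint _))).2.comp fun t => ?_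
    refine ⟨((V : Scheme.{u}).presheaf.stalkSpecializes (specializes_of_eq hgen.symm)).hom t, ?_⟩
    rw [← CommRingCat.comp_apply, TopCat.Presheaf.stalkSpecializes_comp, TopCat.Presheaf.stalkSpecializes_refl]
    rfl
  let ψ := ((V : Scheme.{u}).germToFunctionField ⊤).hom
  let χ := ((b ⁻¹ᵁ V).toScheme.germToFunctionField ⊤).hom
  have hcommO : ∀ (O : (V : Scheme.{u}).Opens) [Nonempty O] [Nonempty (f ⁻¹ᵁ O)] (r : Γ((V : Scheme.{u}), O)),
      φ (((V : Scheme.{u}).germToFunctionField O).hom r) =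
        ((b ⁻¹ᵁ V).toScheme.germToFunctionField (f ⁻¹ᵁ O)).hom (f.app O r) := by
    intro O _ _ r
    have hη : genericPoint (V : Scheme.{u}) ∈ O :=
      ((genericPoint_spec _).mem_open_set_iff O.2).mpr ⟨(Classical.arbitrary O).1, trivial, (Classical.arbitrary O).2⟩
    show (f.stalkMap (genericPoint _)).hom (((V : Scheme.{u}).presheaf.stalkSpecializes hdom).hom
      (((V : Scheme.{u}).presheaf.germ O (genericPoint (V : Scheme.{u})) hη).hom r)) = _
    rw [show ((V : Scheme.{u}).presheaf.stalkSpecializes hdom).hom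
        (((V : Scheme.{u}).presheaf.germ O (genericPoint (V : Scheme.{u})) hη).hom r) =
      ((V : Scheme.{u}).presheaf.germ O (f (genericPoint _)) (hdom.mem_open O.2 hη)).hom r from
      (V : Scheme.{u}).presheaf.germ_stalkSpecializes_apply hη hdom r]
    exact Scheme.Hom.germ_stalkMap_apply f O (genericPoint _) _ r
  haveI : Nonempty (f ⁻¹ᵁ ⊤) := ⟨⟨Classical.arbitrary _, trivial⟩⟩
  have hcomm : ∀ r, φ (ψ r) = χ (f.appTop r) := fun r => hcommO ⊤ r
  obtain ⟨c, hc⟩ := hφs (χ s)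
  let R := Γ((V : Scheme.{u}), ⊤)
  haveI : IsFractionRing R (V : Scheme.{u}).functionField :=
    functionField_isFractionRing_of_isAffineOpen _ ⊤ (isAffineOpen_top _)
  have hR : IsAffineOpen (⊤ : (V : Scheme.{u}).Opens) := isAffineOpen_top _
  obtain ⟨p, hp, hps⟩ := Lib.NormalPush.isIntegral_app f hR s
  have hci : p.eval₂ ψ c = 0 := φ.injective (by
    rw [map_zero, Polynomial.hom_eval₂, hc, show φ.comp ψ = χ.comp f.appTop.hom from RingHom.ext hcomm,
      ← Polynomial.hom_eval₂]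
    exact (congrArg χ hps).trans (map_zero _))
  let I : Ideal R := (LinearMap.range (Algebra.linearMap R (V : Scheme.{u}).functionField)).comap
    (LinearMap.toSpanSingleton R (V : Scheme.{u}).functionField c)
  suffices hI : I = ⊤ by
    obtain ⟨r, hr⟩ := (hI ▸ Submodule.mem_top : (1 : R) ∈ I)
    refine ⟨r, Scheme.germToFunctionField_injective (b ⁻¹ᵁ V).toScheme ⊤ ?_⟩
    refine (hcomm r).symm.trans ((congrArg φ ?_).trans hc)
    exact hr.trans (one_smul R c)
  by_contra hne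
  obtain ⟨m, hm, hIm⟩ := Ideal.exists_le_maximal I hne
  let t : (V : Scheme.{u}) := hR.fromSpec ⟨m, hm.isPrime⟩
  have htm : (hR.primeIdealOf ⟨t, trivial⟩).asIdeal = m :=
    congrArg PrimeSpectrum.asIdeal (hR.fromSpec.isOpenEmbedding.injective (hR.fromSpec_primeIdealOf ⟨t, trivial⟩))
  have hout : ∀ g : R, (∃ r, ψ g * c = ψ r) → g ∈ m := fun g ⟨r, hr⟩ => hIm
    ⟨r, by show ψ r = g • c; rw [Algebra.smul_def]; exact hr.symm⟩
  by_cases htz : t.1 = z
  · letI := TopCat.Presheaf.algebra_section_stalk (V : Scheme.{u}).presheaf (⟨t, trivial⟩ : (⊤ : (V : Scheme.{u}).Opens))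
    haveI := hR.isLocalization_stalk ⟨t, trivial⟩
    let ε := (asIso (V.ι.stalkMap t)).commRingCatIsoToRingEquiv
    haveI : IsIntegrallyClosed (X'.presheaf.stalk (V.ι t)) := by
      show IsIntegrallyClosed (X'.presheaf.stalk t.1)
      rw [htz]; infer_instance
    haveI : IsIntegrallyClosed ((V : Scheme.{u}).presheaf.stalk t) := IsIntegrallyClosed.of_equiv ε
    have hi : _root_.IsIntegral ((V : Scheme.{u}).presheaf.stalk t) c := by
      refine ⟨p.map (((V : Scheme.{u}).presheaf.germ ⊤ t trivial).hom), hp.map _, ?_⟩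
      rw [Polynomial.eval₂_map]
      rw [show (algebraMap ((V : Scheme.{u}).presheaf.stalk t) (V : Scheme.{u}).functionField).comp
          ((V : Scheme.{u}).presheaf.germ ⊤ t trivial).hom = ψ from RingHom.ext fun r =>
        Scheme.algebraMap_germ_eq_germToFunctionField (X := (V : Scheme.{u})) (U := ⊤) (x := t) trivial r]
      exact hci
    obtain ⟨d, hd⟩ := IsIntegrallyClosed.isIntegral_iff.1 hi
    obtain ⟨r, ⟨v, hv⟩, hrv⟩ := IsLocalization.exists_mk'_eq (hR.primeIdealOf ⟨t, trivial⟩).asIdeal.primeCompl d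
    have h1 : ((V : Scheme.{u}).presheaf.germ ⊤ t trivial).hom v * d = ((V : Scheme.{u}).presheaf.germ ⊤ t trivial).hom r := by
      rw [← hrv]
      exact IsLocalization.mk'_spec' _ r (⟨v, hv⟩ : (hR.primeIdealOf ⟨t, trivial⟩).asIdeal.primeCompl)
    have h2 := congrArg (algebraMap ((V : Scheme.{u}).presheaf.stalk t) (V : Scheme.{u}).functionField) h1
    rw [map_mul, hd, Scheme.algebraMap_germ_eq_germToFunctionField, Scheme.algebraMap_germ_eq_germToFunctionField] at h2
    exact hv (htm.symm ▸ hout v ⟨r, h2⟩)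
  · obtain ⟨g, hg, htg⟩ := hR.exists_basicOpen_le
      (V := V.ι ⁻¹ᵁ ⟨({z} : Set X')ᶜ, hy.isOpen_compl⟩) ⟨t, htz⟩ (trivial : t ∈ (⊤ : (V : Scheme.{u}).Opens))
    let O := (V : Scheme.{u}).basicOpen g
    haveI : IsIso (f ∣_ O) := by
      refine BlowUpLib.isIso_restrict hf O fun x hx hmem => ?_
      have h1 : x ∈ V.ι ⁻¹' ((Scheme.IdealSheafData.vanishingIdeal ⟨{z}, hy⟩).support : Set X') := by
        rw [← Closeds.coe_preimage _ V.ι.continuous, ← Scheme.IdealSheafData.support_comap]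
        exact hmem
      rw [Scheme.IdealSheafData.coe_support_vanishingIdeal] at h1
      exact hg hx h1
    have hsurjO : Function.Surjective (f.app O) := by
      have h2 : IsIso ((f ∣_ O).app ⊤) := inferInstance
      rw [morphismRestrict_app] at h2
      haveI : IsIso (f.app (O.ι ''ᵁ ⊤)) := IsIso.of_isIso_comp_right (f.app (O.ι ''ᵁ ⊤))
        ((b ⁻¹ᵁ V).toScheme.presheaf.map (eqToHom (image_morphismRestrict_preimage f O ⊤)).op)
      have key : ∀ O' : (V : Scheme.{u}).Opens, O' = O → Function.Surjective (f.app O') → Function.Surjective (f.app O) := by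
        rintro O' rfl h; exact h
      exact key _ O.ι_image_top (ConcreteCategory.bijective_of_isIso _).2
    obtain ⟨r₀, hr₀⟩ := hsurjO ((b ⁻¹ᵁ V).toScheme.presheaf.map (homOfLE le_top : f ⁻¹ᵁ O ⟶ ⊤).op s)
    haveI : Nonempty O := ⟨⟨t, htg⟩⟩
    haveI : Nonempty (f ⁻¹ᵁ O) := ⟨⟨genericPoint _, by
      show f (genericPoint _) ∈ O
      rw [hgen]
      exact ((genericPoint_spec _).mem_open_set_iff O.2).mpr ⟨t, trivial, htg⟩⟩⟩
    have hcO : ((V : Scheme.{u}).germToFunctionField O).hom r₀ = c := φ.injective (by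
      rw [hcommO, hr₀, hc]
      exact TopCat.Presheaf.germ_res_apply _ _ _ _ s)
    letI : Algebra R Γ((V : Scheme.{u}), O) :=
      ((V : Scheme.{u}).presheaf.map (homOfLE le_top : O ⟶ ⊤).op).hom.toAlgebra
    haveI : IsLocalization.Away g Γ((V : Scheme.{u}), O) := hR.isLocalization_of_eq_basicOpen g (homOfLE le_top) rfl
    obtain ⟨⟨r, ⟨_, n, rfl⟩⟩, hr⟩ := IsLocalization.surj (Submonoid.powers g) r₀
    have hg' : g ∉ m := fun hgm => by
      rw [← htm] at hgm
      exact (QCoh.mem_basicOpen_iff_notMem hR (x := t) trivial g).1 htg hgm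
    have hres : ∀ q : R, ((V : Scheme.{u}).germToFunctionField O).hom (algebraMap R Γ((V : Scheme.{u}), O) q) = ψ q :=
      fun q => TopCat.Presheaf.germ_res_apply _ _ _ _ q
    have h3 := congrArg ((V : Scheme.{u}).germToFunctionField O).hom hr
    rw [map_mul, hcO, hres, hres, mul_comm] at h3
    exact hg' (hm.isPrime.mem_of_pow_mem n (hout (g ^ n) ⟨r, h3⟩))

/-- The universal property of a contraction. -/
theorem factor {E Y : Scheme.{u}} {ι : E ⟶ X} [IsClosedImmersion ι] (hE : Models.IsExcCurve ι)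
    (hc : Models.IsContractionOf ι b) (φ : X ⟶ Y) (y₀ : Y) (hφ : Set.range ((ι ≫ φ).base : E → Y) = {y₀}) :
    ∃! ψ : X' ⟶ Y, b ≫ ψ = φ := by
  obtain ⟨hN, -, z, hz, hrange, hreg, hdim, hB⟩ := hc
  haveI := hreg
  obtain ⟨k, _, e, -⟩ := hE.2
  obtain ⟨p, q, hpq, hsp⟩ := exists_specializes_projLine k
  have hmem : ∀ a, b (ι a) = z := fun a => by
    have h : (ι ≫ b) a ∈ Set.range ((ι ≫ b).base : E → X') := ⟨a, rfl⟩
    rw [hrange] at h
    exact h
  have hsub : b ⁻¹' {z} ⊆ Set.range ι :=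
    fibre_subset b hz hB hdim ι.isClosedEmbedding.isClosed_range
      (x₀ := ι (e.hom p)) (x₁ := ι (e.hom q))
      (fun h => hpq (e.hom.homeomorph.injective (ι.isClosedEmbedding.injective h)))
      ((hsp.map e.hom.continuous).map ι.continuous) ⟨_, rfl⟩ (hmem _) (hmem _)
  have hsurjE : z ∈ Set.range b := ⟨_, hmem (e.hom p)⟩
  have h0 := bijective_app b hz hB hsurjE
  have hsurj : Function.Surjective b := fun w => by
    by_cases hw : w = z
    · exact hw ▸ hsurjE
    haveI := isIso_restrict_of_notMem b hz hB (V := ⟨({z} : Set X')ᶜ, hz.isOpen_compl⟩) (fun h => h rfl)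
    obtain ⟨v, hv⟩ := (b ∣_ (⟨({z} : Set X')ᶜ, hz.isOpen_compl⟩ : X'.Opens)).surjective ⟨w, hw⟩
    refine ⟨v.1, ?_⟩
    have := congrArg Subtype.val hv
    rwa [morphismRestrict_base_coe] at this
  have hfib : ∀ w : X', ∃ t : Y, ∀ x : X, b x = w → φ x = t := by
    intro w
    obtain ⟨x₀, hx₀⟩ := hsurj w
    refine ⟨φ x₀, fun x hx => ?_⟩
    by_cases hw : w = z
    · subst hw
      obtain ⟨a, rfl⟩ := hsub (hx : x ∈ b ⁻¹' {w})
      obtain ⟨a₀, rfl⟩ := hsub (hx₀ : x₀ ∈ b ⁻¹' {w})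
      have h1 : (ι ≫ φ) a ∈ ({y₀} : Set Y) := hφ ▸ ⟨a, rfl⟩
      have h2 : (ι ≫ φ) a₀ ∈ ({y₀} : Set Y) := hφ ▸ ⟨a₀, rfl⟩
      exact (h1.trans h2.symm : _)
    · let V : X'.Opens := ⟨({z} : Set X')ᶜ, hz.isOpen_compl⟩
      haveI := isIso_restrict_of_notMem b hz hB (V := V) (fun h => h rfl)
      have hxy : ∀ v : X, b v = w → v ∈ b ⁻¹ᵁ V := fun v hv => show b v ∈ V from hv.symm ▸ hw
      have e' : (⟨x, hxy x hx⟩ : b ⁻¹ᵁ V) = ⟨x₀, hxy x₀ hx₀⟩ :=
        (ConcreteCategory.bijective_of_isIso (b ∣_ V).base).1 (Subtype.ext (by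
          erw [morphismRestrict_base_coe, morphismRestrict_base_coe]
          exact hx.trans hx₀.symm))
      exact congrArg (fun v : b ⁻¹ᵁ V => φ v.1) e'
  obtain ⟨ψ, hψ⟩ := H23.Rigid.exists_factor b h0 b.isClosedMap φ hfib
  exact ⟨ψ, hψ, fun ψ' h' => H23.Rigid.cancel_left b h0 hsurj ψ' ψ (h'.trans hψ.symm)⟩

end Groth.Agent.Contraction7
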